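import Groth.Agent.FiltMod.K983.GrProj
import Mathlib.RingTheory.LocalRing.Module
import Mathlib.LinearAlgebra.TensorProduct.RightExactness
import Mathlib.LinearAlgebra.FiniteDimensional.Lemmas

/-!
# The fibre rank criterion
-/

set_option autoImplicit false
set_option linter.unusedSectionVars false
set_option linter.style.haveILetI false
open scoped TensorProduct
universe u v w

namespace K983.FibreRank
open K983.Grading K983.Split K983.GrProj

variable {Γ : Type w} [LinearOrder Γ]

section field

variable {K : Type u} [Field K] {V : Type v} [AddCommGroup V] [Module K V] [Module.Finite K V]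

theorem sum_le (A B : Γ → Submodule K V) (hBA : ∀ γ, B γ ≤ A γ)
    (hlt : ∀ γ η, γ < η → A η ≤ B γ) (S : Finset Γ) :
    ∑ γ ∈ S, (Module.finrank K (A γ) - Module.finrank K (B γ)) ≤
      Module.finrank K (⨆ γ ∈ (S : Set Γ), A γ : Submodule K V) := by
  classical
  induction S using Finset.induction_on_min with
  | empty => simp
  | insert a S ha ih =>
    have hnot : a ∉ S := fun h => lt_irrefl a (ha a h)
    rw [Finset.sum_insert hnot]
    have h1 : (⨆ γ ∈ (S : Set Γ), A γ : Submodule K V) ≤ B a :=
      iSup₂_le fun γ hγ => hlt a γ (ha γ hγ)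
    have h2 : A a ≤ (⨆ γ ∈ ((insert a S : Finset Γ) : Set Γ), A γ : Submodule K V) :=
      le_iSup₂_of_le (f := fun γ (_ : γ ∈ ((insert a S : Finset Γ) : Set Γ)) => A γ) a
        (by simp) le_rfl
    have h3 := Submodule.finrank_mono h1
    have h4 := Submodule.finrank_mono h2
    have h5 := Submodule.finrank_mono (hBA a)
    omega

theorem finrank_sub_le (A B W : Submodule K V) (hBA : B ≤ A) (hA : A ≤ B ⊔ W) :
    Module.finrank K A - Module.finrank K B ≤
      Module.finrank K (W ⊓ A : Submodule K V) - Module.finrank K (W ⊓ B : Submodule K V) := by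
  have h1 : A = B ⊔ (W ⊓ A) := by
    apply le_antisymm
    · intro x hx
      obtain ⟨b, hb, w, hw, rfl⟩ := Submodule.mem_sup.1 (hA hx)
      refine Submodule.add_mem_sup hb ⟨hw, ?_⟩
      have := A.sub_mem hx (hBA hb)
      simpa using this
    · exact sup_le hBA inf_le_right
  have h2 := Submodule.finrank_sup_add_finrank_inf_eq B (W ⊓ A)
  rw [← h1] at h2
  have h3 : B ⊓ (W ⊓ A) = W ⊓ B := by
    apply le_antisymm
    · exact le_inf (inf_le_right.trans inf_le_left) inf_le_left
    · exact le_inf inf_le_right (inf_le_inf_left W hBA)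
  rw [h3] at h2
  have h4 := Submodule.finrank_mono (inf_le_inf_left W hBA)
  omega

/-- If the jumps of a filtration sum up to the full dimension and the graded pieces are generated
by a subspace `W`, then `W` is everything. -/
theorem eq_top_of_finrank (A : Γ → Submodule K V) (hA : Antitone A) (W : Submodule K V)
    (hW : ∀ γ, A γ ≤ Plus A γ ⊔ W)
    (h : Module.finrank K V = ∑ᶠ γ, (Module.finrank K (A γ) - Module.finrank K (Plus A γ))) :
    W = ⊤ := by
  classical
  apply Submodule.eq_top_of_finrank_eq
  apply le_antisymm (Submodule.finrank_le W)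
  rw [h]
  by_cases hfin : (Function.support fun γ =>
      (Module.finrank K (A γ) - Module.finrank K (Plus A γ))).Finite
  · rw [finsum_eq_sum _ hfin]
    refine (Finset.sum_le_sum fun γ _ => finrank_sub_le (A γ) (Plus A γ) W (Plus_le A hA γ) (hW γ)).trans ?_
    refine (sum_le (fun γ => W ⊓ A γ) (fun γ => W ⊓ Plus A γ)
      (fun γ => inf_le_inf_left W (Plus_le A hA γ))
      (fun γ η hlt => inf_le_inf_left W (le_Plus A hlt)) _).trans ?_
    exact Submodule.finrank_mono (iSup₂_le fun _ _ => inf_le_left)
  · rw [finsum_of_infinite_support hfin]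
    exact Nat.zero_le _

theorem finrank_eq_sum {G : Γ → Submodule K V} (g : Grd G) (S : Finset Γ)
    (hS : ∀ η, η ∉ S → G η = ⊥) :
    Module.finrank K V = ∑ γ ∈ S, Module.finrank K (G γ) := by
  classical
  have hp : ∀ η, η ∉ S → ∀ x, g.p η x = 0 := by
    intro η hη x
    have := g.mem η x
    rw [hS η hη] at this
    exact this
  have hsum : ∀ x, ∑ γ ∈ S, g.p γ x = x := by
    intro x
    conv_rhs => rw [← g.sum x]
    symm
    rw [Finset.sum_subset (Finset.subset_union_left (s₁ := g.supp x) (s₂ := S)) (fun η _ hη => g.zero x η hη),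
      Finset.sum_subset (Finset.subset_union_right (s₁ := g.supp x) (s₂ := S)) (fun η _ hη => hp η hη x)]
  let e : V ≃ₗ[K] (∀ γ : S, G γ.1) :=
    { toFun := fun x γ => ⟨g.p γ.1 x, g.mem γ.1 x⟩
      map_add' := fun x y => by funext γ; exact Subtype.ext (map_add _ _ _)
      map_smul' := fun a x => by funext γ; exact Subtype.ext (map_smul _ _ _)
      invFun := fun y => ∑ γ : S, (y γ : V)
      left_inv := fun x => by
        exact (Finset.sum_coe_sort S (fun γ => g.p γ x)).trans (hsum x)
      right_inv := fun y => by
        funext γ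
        apply Subtype.ext
        simp only [map_sum]
        rw [Finset.sum_eq_single γ]
        · exact g.same γ.1 _ (y γ).2
        · intro δ _ hδ
          exact g.ne γ.1 δ.1 _ (y δ).2 (fun h => hδ (Subtype.ext h))
        · intro h; exact absurd (Finset.mem_univ _) h }
  rw [e.finrank_eq, Module.finrank_pi_fintype]
  exact Finset.sum_coe_sort S (fun γ => Module.finrank K (G γ))

theorem finrank_jumps {G A : Γ → Submodule K V} (g : Grd G)
    (hA : ∀ γ, A γ = ⨆ η ∈ Set.Ici γ, G η) :
    Module.finrank K V = ∑ᶠ γ, (Module.finrank K (A γ) - Module.finrank K (Plus A γ)) := by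
  classical
  obtain ⟨S, hS⟩ := g.exists_finset
  have h1 : ∀ γ, Module.finrank K (A γ) - Module.finrank K (Plus A γ) = Module.finrank K (G γ) := by
    intro γ
    have h2 := Submodule.finrank_sup_add_finrank_inf_eq (G γ) (Plus A γ)
    rw [sup_Plus hA, (disjoint_Plus g hA γ).eq_bot, finrank_bot] at h2
    omega
  simp only [h1]
  rw [finsum_eq_sum_of_support_subset (s := S)]
  · exact finrank_eq_sum g S hS
  · intro γ hγ
    by_contra hcon
    apply hγ
    simp only
    rw [hS γ hcon, finrank_bot]

end field

section basechange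

variable {R : Type u} [CommRing R] {M : Type v} [AddCommGroup M] [Module R M]
  (K : Type u) [CommRing K] [Algebra R K]

theorem baseChange_iSup {ι : Sort*} (P : ι → Submodule R M) :
    (⨆ i, P i).baseChange K = ⨆ i, (P i).baseChange K := by
  simp only [Submodule.baseChange_eq_span, Submodule.map_iSup]
  apply le_antisymm
  · rw [Submodule.span_le]
    intro x hx
    have hle : (⨆ i, Submodule.map (TensorProduct.mk R K M 1) (P i)) ≤
        (⨆ i, Submodule.span K (Submodule.map (TensorProduct.mk R K M 1) (P i) : Set (K ⊗[R] M))).restrictScalars R := by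
      refine iSup_le fun i y hy => ?_
      exact (le_iSup (fun i => Submodule.span K
        (Submodule.map (TensorProduct.mk R K M 1) (P i) : Set (K ⊗[R] M))) i) (Submodule.subset_span hy)
    exact hle hx
  · refine iSup_le fun i => Submodule.span_mono ?_
    exact le_iSup (fun i => Submodule.map (TensorProduct.mk R K M 1) (P i)) i

theorem baseChange_sup (P Q : Submodule R M) :
    (P ⊔ Q).baseChange K = P.baseChange K ⊔ Q.baseChange K := by
  rw [sup_eq_iSup, baseChange_iSup, sup_eq_iSup]
  congr 1
  funext b
  cases b <;> rfl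

theorem baseChange_Plus (F : Γ → Submodule R M) (γ : Γ) :
    (Plus F γ).baseChange K = Plus (fun γ => (F γ).baseChange K) γ := by
  simp only [Plus, baseChange_iSup]

/-- Base change of a grading with finite support. -/
noncomputable def Grd.baseChange {G : Γ → Submodule R M} (g : Grd G) (S : Finset Γ)
    (hS : ∀ η, η ∉ S → G η = ⊥) : Grd (fun γ => (G γ).baseChange K) where
  p η := (g.p η).baseChange K
  mem η x := by
    induction x with
    | zero => rw [map_zero]; exact Submodule.zero_mem _
    | tmul a m =>
      rw [LinearMap.baseChange_tmul]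
      exact Submodule.tmul_mem_baseChange_of_mem a (g.mem η m)
    | add x y hx hy => rw [map_add]; exact Submodule.add_mem _ hx hy
  same η x hx := by
    obtain ⟨y, rfl⟩ := hx
    rw [← LinearMap.comp_apply, ← LinearMap.baseChange_comp]
    congr 2
    ext z
    exact g.same η _ z.2
  ne η δ x hx hne := by
    obtain ⟨y, rfl⟩ := hx
    rw [← LinearMap.comp_apply, ← LinearMap.baseChange_comp]
    have : g.p η ∘ₗ (G δ).subtype = 0 := by
      ext z
      exact g.ne η δ _ z.2 hne
    rw [this, LinearMap.baseChange_zero, LinearMap.zero_apply]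
  supp _ := S
  sum x := by
    have hp : ∀ η, η ∉ S → ∀ x, g.p η x = 0 := by
      intro η hη x
      have := g.mem η x
      rw [hS η hη] at this
      exact this
    have hsum : ∀ x, ∑ γ ∈ S, g.p γ x = x := by
      classical
      intro x
      conv_rhs => rw [← g.sum x]
      symm
      rw [Finset.sum_subset (Finset.subset_union_left (s₁ := g.supp x) (s₂ := S)) (fun η _ hη => g.zero x η hη),
        Finset.sum_subset (Finset.subset_union_right (s₁ := g.supp x) (s₂ := S)) (fun η _ hη => hp η hη x)]
    induction x with
    | zero => simp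
    | tmul a m =>
      simp only [LinearMap.baseChange_tmul]
      rw [← TensorProduct.tmul_sum, hsum]
    | add x y hx hy =>
      simp only [map_add, Finset.sum_add_distrib]
      rw [hx, hy]
  zero x η hη := by
    have : g.p η = 0 := by
      ext x
      have := g.mem η x
      rw [hS η hη] at this
      exact this
    rw [this, LinearMap.baseChange_zero, LinearMap.zero_apply]

end basechange

section main

variable {R : Type u} [CommRing R] {M : Type v} [AddCommGroup M] [Module R M] [Module.Finite R M]

theorem fibre_rank_of_split {F G : Γ → Submodule R M} (g : Grd G)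
    (hF : ∀ γ, F γ = ⨆ η ∈ Set.Ici γ, G η) (K : Type u) [Field K] [Algebra R K] :
    Module.finrank K (K ⊗[R] M) = ∑ᶠ γ, (Module.finrank K ((F γ).baseChange K) -
      Module.finrank K (Plus (fun γ => (F γ).baseChange K) γ)) := by
  obtain ⟨S, hS⟩ := g.exists_finset
  refine finrank_jumps (Grd.baseChange K g S hS) (A := fun γ => (F γ).baseChange K) (fun γ => ?_)
  simp only [hF, baseChange_iSup]

theorem eq_top_of_forall_baseChange (N : Submodule R M)
    (h : ∀ m : Ideal R, ∀ [m.IsPrime], N.baseChange m.ResidueField = ⊤) : N = ⊤ := by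
  rw [← Submodule.Quotient.subsingleton_iff, ← Module.support_eq_empty_iff (R := R)]
  rw [Set.eq_empty_iff_forall_notMem]
  intro p hp
  rw [Module.mem_support_iff_nontrivial_residueField_tensorProduct] at hp
  have h1 := h p.asIdeal
  have hsurj : Function.Surjective (N.subtype.lTensor p.asIdeal.ResidueField) := by
    intro x
    have : x ∈ N.baseChange p.asIdeal.ResidueField := by rw [h1]; trivial
    obtain ⟨y, hy⟩ := this
    exact ⟨y, hy⟩
  have hex : Function.Exact (N.subtype.lTensor p.asIdeal.ResidueField)
      (N.mkQ.lTensor p.asIdeal.ResidueField) :=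
    lTensor_exact _ (LinearMap.exact_subtype_mkQ N) (Submodule.mkQ_surjective N)
  have hs2 : Function.Surjective (N.mkQ.lTensor p.asIdeal.ResidueField) :=
    LinearMap.lTensor_surjective _ (Submodule.mkQ_surjective N)
  obtain ⟨x, y, hxy⟩ := hp
  apply hxy
  obtain ⟨x', rfl⟩ := hs2 x
  obtain ⟨y', rfl⟩ := hs2 y
  rw [(hex x').2 (hsurj x'), (hex y').2 (hsurj y')]

theorem split_of_fibre_rank (F : Γ → Submodule R M) (hF : Antitone F)
    (hproj : ∀ γ, Module.Projective R (↥(F γ) ⧸ Submodule.comap (F γ).subtype (Plus F γ)))
    (h : ∀ m : Ideal R, ∀ [m.IsPrime], Module.finrank m.ResidueField (m.ResidueField ⊗[R] M) =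
      ∑ᶠ γ, (Module.finrank m.ResidueField ((F γ).baseChange m.ResidueField) -
        Module.finrank m.ResidueField (Plus (fun γ => (F γ).baseChange m.ResidueField) γ))) :
    ∃ G : Γ → Submodule R M, DirectSum.IsInternal G ∧ ∀ γ, F γ = ⨆ η ∈ Set.Ici γ, G η := by
  have hex : ∀ γ, ∃ Gγ : Submodule R M, Gγ ⊔ Plus F γ = F γ ∧ Disjoint Gγ (Plus F γ) := by
    intro γ
    have := hproj γ
    exact exists_compl_of_projective _ _ (Plus_le F hF γ)
  choose G hG1 hG2 using hex
  refine ⟨G, split_of_iSup_eq_top F hF G hG1 hG2 ?_⟩
  apply eq_top_of_forall_baseChange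
  intro m hm
  refine eq_top_of_finrank (fun γ => (F γ).baseChange m.ResidueField) ?_ _ (fun γ => ?_) (h m)
  · intro a b hab
    exact Submodule.baseChange_mono _ (hF hab)
  · rw [← baseChange_Plus]
    conv_lhs => rw [← hG1 γ, baseChange_sup]
    refine sup_le ?_ le_sup_left
    exact (Submodule.baseChange_mono _ (le_iSup G γ)).trans le_sup_right

end main

end K983.FibreRank
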