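import Groth.Agent.FiltMod.K983.Split
import Mathlib.LinearAlgebra.Pi

/-!
# Graded pieces of split filtrations; products
-/

set_option autoImplicit false
set_option linter.unusedSectionVars false
set_option linter.style.haveILetI false
open scoped TensorProduct
universe u v w

namespace K983.GrProj
open K983.Grading K983.Split

variable {Γ : Type w} [LinearOrder Γ] {R : Type u} [CommRing R] {M : Type v} [AddCommGroup M]
  [Module R M]

/-- The graded piece is a retract of the module. -/
theorem gr_retract {F G : Γ → Submodule R M} (g : Grd G)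
    (hF : ∀ γ, F γ = ⨆ η ∈ Set.Ici γ, G η) (γ : Γ) :
    ∃ (i : (↥(F γ) ⧸ Submodule.comap (F γ).subtype (Plus F γ)) →ₗ[R] M)
      (s : M →ₗ[R] (↥(F γ) ⧸ Submodule.comap (F γ).subtype (Plus F γ))),
      s ∘ₗ i = LinearMap.id := by
  have hPlus : ∀ x ∈ Plus F γ, g.p γ x = 0 := by
    intro x hx
    rw [Plus_eq hF, g.mem_Ioi_iff] at hx
    exact hx γ le_rfl
  let i : (↥(F γ) ⧸ Submodule.comap (F γ).subtype (Plus F γ)) →ₗ[R] M :=
    Submodule.liftQ _ ((g.p γ).comp (F γ).subtype) (by
      intro x hx
      rw [LinearMap.mem_ker, LinearMap.comp_apply]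
      exact hPlus _ hx)
  let s : M →ₗ[R] (↥(F γ) ⧸ Submodule.comap (F γ).subtype (Plus F γ)) :=
    (Submodule.mkQ _).comp (LinearMap.codRestrict (F γ) (g.p γ)
      (fun x => le_of_split hF le_rfl (g.mem γ x)))
  refine ⟨i, s, ?_⟩
  apply Submodule.linearMap_qext
  apply LinearMap.ext
  intro x
  simp only [LinearMap.comp_apply, LinearMap.id_apply, i, s]
  rw [Submodule.mkQ_apply, Submodule.mkQ_apply, Submodule.liftQ_apply, Submodule.Quotient.eq,
    Submodule.mem_comap, Plus_eq hF, g.mem_Ioi_iff]
  intro η hη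
  have hx : ∀ η < γ, g.p η (x : M) = 0 := by
    have := (hF γ).le x.2
    rw [g.mem_Ici_iff] at this
    exact this
  simp only [Submodule.subtype_apply, Submodule.coe_sub, LinearMap.codRestrict_apply,
    LinearMap.comp_apply, map_sub]
  rcases eq_or_lt_of_le hη with rfl | hlt
  · rw [g.same η _ (g.mem η _), g.same η _ (g.mem η _), sub_self]
  · rw [hx η hlt, sub_zero]
    exact g.ne η γ _ (g.mem γ _) hlt.ne'

theorem gr_projective {F G : Γ → Submodule R M} (g : Grd G)
    (hF : ∀ γ, F γ = ⨆ η ∈ Set.Ici γ, G η) (γ : Γ) [Module.Projective R M] :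
    Module.Projective R (↥(F γ) ⧸ Submodule.comap (F γ).subtype (Plus F γ)) := by
  obtain ⟨i, s, h⟩ := gr_retract g hF γ
  exact Module.Projective.of_split i s h

theorem gr_finite {F G : Γ → Submodule R M} (g : Grd G)
    (hF : ∀ γ, F γ = ⨆ η ∈ Set.Ici γ, G η) (γ : Γ) [Module.Finite R M] :
    Module.Finite R (↥(F γ) ⧸ Submodule.comap (F γ).subtype (Plus F γ)) := by
  obtain ⟨i, s, h⟩ := gr_retract g hF γ
  exact Module.Finite.of_surjective s (fun x => ⟨i x, LinearMap.congr_fun h x⟩)

/-- Retracts of graded pieces. -/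
theorem projective_of_retract {M' : Type v} [AddCommGroup M'] [Module R M'] (A B : Submodule R M)
    (A' B' : Submodule R M') (i : M' →ₗ[R] M) (s : M →ₗ[R] M') (hsi : ∀ x, s (i x) = x)
    (hiA : A' ≤ Submodule.comap i A) (hiB : B' ≤ Submodule.comap i B)
    (hsA : A ≤ Submodule.comap s A') (hsB : B ≤ Submodule.comap s B')
    [Module.Projective R (A ⧸ Submodule.comap A.subtype B)] :
    Module.Projective R (A' ⧸ Submodule.comap A'.subtype B') := by
  refine Module.Projective.of_split
    (Submodule.mapQ (Submodule.comap A'.subtype B') (Submodule.comap A.subtype B)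
      (i.restrict (p := A') (q := A) hiA) (fun x hx => hiB hx))
    (Submodule.mapQ (Submodule.comap A.subtype B) (Submodule.comap A'.subtype B')
      (s.restrict (p := A) (q := A') hsA) (fun x hx => hsB hx)) ?_
  apply Submodule.linearMap_qext
  apply LinearMap.ext
  intro x
  have hx : (s.restrict (p := A) (q := A') hsA) ((i.restrict (p := A') (q := A) hiA) x) = x :=
    Subtype.ext (hsi x)
  exact congrArg (Submodule.mkQ _) hx

section pi

variable {A : Type v} [Fintype A] {N : A → Type v} [∀ a, AddCommGroup (N a)] [∀ a, Module R (N a)]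

theorem projective_pi [∀ a, Module.Projective R (N a)] : Module.Projective R (∀ a, N a) := by
  classical
  exact Module.Projective.of_equiv (DirectSum.linearEquivFunOnFintype R A N)

/-- Product gradings. -/
noncomputable def Grd.pi {G : ∀ a, Γ → Submodule R (N a)} (g : ∀ a, Grd (G a)) :
    Grd (fun γ => Submodule.pi Set.univ (fun a => G a γ)) := by
  classical
  refine
    { p := fun η => LinearMap.pi (fun a => ((g a).p η).comp (LinearMap.proj a))
      mem := fun η x => ?_
      same := fun η x hx => ?_
      ne := fun η δ x hx hne => ?_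
      supp := fun x => Finset.univ.biUnion (fun a => (g a).supp (x a))
      sum := fun x => ?_
      zero := fun x η hη => ?_ }
  · rw [Submodule.mem_pi]
    intro a _
    exact (g a).mem η _
  · funext a
    exact (g a).same η _ (Submodule.mem_pi.1 hx a trivial)
  · funext a
    exact (g a).ne η δ _ (Submodule.mem_pi.1 hx a trivial) hne
  · funext a
    rw [Finset.sum_apply]
    simp only [LinearMap.pi_apply, LinearMap.comp_apply, LinearMap.proj_apply]
    rw [← Finset.sum_subset (Finset.subset_biUnion_of_mem (fun a => (g a).supp (x a))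
      (Finset.mem_univ a)) (fun η _ hη => (g a).zero (x a) η hη)]
    exact (g a).sum (x a)
  · funext a
    refine (g a).zero (x a) η (fun h => hη ?_)
    exact Finset.mem_biUnion.2 ⟨a, Finset.mem_univ a, h⟩

theorem pi_split {G : ∀ a, Γ → Submodule R (N a)} (g : ∀ a, Grd (G a))
    (F : ∀ a, Γ → Submodule R (N a)) (hF : ∀ a γ, F a γ = ⨆ η ∈ Set.Ici γ, G a η) (γ : Γ) :
    Submodule.pi Set.univ (fun a => F a γ) =
      ⨆ η ∈ Set.Ici γ, Submodule.pi Set.univ (fun a => G a η) := by
  ext x
  rw [(Grd.pi g).mem_Ici_iff, Submodule.mem_pi]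
  constructor
  · intro h η hη
    funext a
    have := h a trivial
    rw [hF, (g a).mem_Ici_iff] at this
    exact this η hη
  · intro h a _
    rw [hF, (g a).mem_Ici_iff]
    intro η hη
    exact congrFun (h η hη) a

theorem map_proj_pi [DecidableEq A] (P : ∀ a, Submodule R (N a)) (a : A) :
    Submodule.map (LinearMap.proj a) (Submodule.pi Set.univ P) = P a := by
  apply le_antisymm
  · rw [Submodule.map_le_iff_le_comap]
    intro x hx
    exact Submodule.mem_pi.1 hx a trivial
  · intro x hx
    refine ⟨Pi.single a x, ?_, by simp⟩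
    rw [SetLike.mem_coe, Submodule.mem_pi]
    intro b _
    by_cases h : b = a
    · subst h; simpa using hx
    · rw [Pi.single_eq_of_ne h]; exact Submodule.zero_mem _

theorem single_mem_pi [DecidableEq A] (P : ∀ a, Submodule R (N a)) (a : A) (x : N a)
    (hx : x ∈ P a) : (Pi.single a x : ∀ a, N a) ∈ Submodule.pi Set.univ P := by
  rw [Submodule.mem_pi]
  intro b _
  by_cases h : b = a
  · subst h; simpa using hx
  · rw [Pi.single_eq_of_ne h]; exact Submodule.zero_mem _

theorem map_proj_Plus [DecidableEq A] (F : ∀ a, Γ → Submodule R (N a)) (a : A) (γ : Γ) :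
    Submodule.map (LinearMap.proj a) (Plus (fun γ => Submodule.pi Set.univ (fun a => F a γ)) γ) =
      Plus (F a) γ := by
  simp only [Plus, Submodule.map_iSup, map_proj_pi (fun a => F a _) a]

theorem map_single_Plus [DecidableEq A] (F : ∀ a, Γ → Submodule R (N a)) (a : A) (γ : Γ) :
    Plus (F a) γ ≤ Submodule.comap (LinearMap.single R N a)
      (Plus (fun γ => Submodule.pi Set.univ (fun a => F a γ)) γ) := by
  refine iSup₂_le fun η hη x hx => ?_
  exact le_Plus (fun γ => Submodule.pi Set.univ (fun a => F a γ)) hη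
    (single_mem_pi (fun a => F a η) a x hx)

theorem split_factor (F : ∀ a, Γ → Submodule R (N a)) (hF : ∀ a, Antitone (F a))
    [∀ a, Module.Finite R (N a)] [∀ a, Module.Projective R (N a)]
    (G : Γ → Submodule R (∀ a, N a)) (g : Grd G)
    (hG : ∀ γ, Submodule.pi Set.univ (fun a => F a γ) = ⨆ η ∈ Set.Ici γ, G η) (a : A) :
    ∃ G : Γ → Submodule R (N a), DirectSum.IsInternal G ∧ ∀ γ, F a γ = ⨆ η ∈ Set.Ici γ, G η := by
  classical
  have hproj : ∀ γ, Module.Projective R (↥(F a γ) ⧸ Submodule.comap (F a γ).subtype (Plus (F a) γ)) := by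
    intro γ
    have hpp : Module.Projective R (∀ a, N a) := projective_pi
    have := gr_projective (F := fun γ => Submodule.pi Set.univ (fun a => F a γ)) g hG γ
    refine projective_of_retract (Submodule.pi Set.univ (fun a => F a γ))
      (Plus (fun γ => Submodule.pi Set.univ (fun a => F a γ)) γ) _ _ (LinearMap.single R N a)
      (LinearMap.proj a) (fun x => by simp) ?_ (map_single_Plus F a γ) ?_ ?_
    · intro x hx
      exact single_mem_pi (fun a => F a γ) a x hx
    · rw [← Submodule.map_le_iff_le_comap, map_proj_pi (fun a => F a γ) a]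
    · rw [← Submodule.map_le_iff_le_comap, map_proj_Plus]
  have hex : ∀ γ, ∃ Gγ : Submodule R (N a), Gγ ⊔ Plus (F a) γ = F a γ ∧ Disjoint Gγ (Plus (F a) γ) := by
    intro γ
    have := hproj γ
    exact exists_compl_of_projective _ _ (Plus_le (F a) (hF a) γ)
  choose Ga hGa1 hGa2 using hex
  refine ⟨Ga, split_of_finJump (F a) (hF a) Ga hGa1 hGa2 ?_⟩
  obtain ⟨S, hS1, hS2⟩ := finJump_of_split (F := fun γ => Submodule.pi Set.univ (fun a => F a γ)) g hG
  refine ⟨S, ?_, fun γ hγ => ?_⟩
  · have := congrArg (Submodule.map (LinearMap.proj (R := R) (φ := N) a)) hS1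
    simp only [Submodule.map_iSup, map_proj_pi (fun a => F a _) a] at this
    rw [this, Submodule.map_top, LinearMap.range_eq_top]
    exact fun x => ⟨Pi.single a x, by simp⟩
  · have := Submodule.map_mono (f := LinearMap.proj (R := R) (φ := N) a) (hS2 γ hγ)
    rw [map_proj_Plus] at this
    simpa only [Submodule.map_iSup, map_proj_pi (fun a => F a _) a] using this

end pi

end K983.GrProj
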