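import Mathlib.Algebra.DirectSum.Decomposition
import Mathlib.Algebra.DirectSum.Module
import Mathlib.LinearAlgebra.Projection
import Mathlib.RingTheory.Finiteness.Basic
import Mathlib.Algebra.Order.Group.Defs
import Mathlib.Order.Interval.Set.Basic

/-!
# Internal gradings of modules by their projections
-/

set_option autoImplicit false
universe u v w

namespace K983.Grading

variable {R : Type u} [CommRing R] {M : Type v} [AddCommGroup M] [Module R M] {Γ : Type w}

/-- The projections of an internal direct sum decomposition, with their properties. -/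
structure Grd (G : Γ → Submodule R M) where
  p : Γ → (M →ₗ[R] M)
  mem : ∀ η x, p η x ∈ G η
  same : ∀ η x, x ∈ G η → p η x = x
  ne : ∀ η δ x, x ∈ G δ → δ ≠ η → p η x = 0
  supp : M → Finset Γ
  sum : ∀ x, ∑ η ∈ supp x, p η x = x
  zero : ∀ x η, η ∉ supp x → p η x = 0

/-- The projections of an internal direct sum decomposition. -/
noncomputable def Grd.ofInternal [DecidableEq Γ] {G : Γ → Submodule R M}
    (h : DirectSum.IsInternal G) : Grd G := by
  classical
  letI := h.chooseDecomposition
  refine
    { p := fun η => (G η).subtype ∘ₗ (DirectSum.component R Γ (fun i => G i) η) ∘ₗ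
        (DirectSum.decomposeLinearEquiv G).toLinearMap
      mem := fun η x => Submodule.coe_mem _
      same := fun η x hx => ?_
      ne := fun η δ x hx hne => ?_
      supp := fun x => (DirectSum.decompose G x).support
      sum := fun x => ?_
      zero := fun x η hη => ?_ }
  · exact DirectSum.decompose_of_mem_same G hx
  · exact DirectSum.decompose_of_mem_ne G hx hne
  · exact DirectSum.sum_support_decompose G x
  · have := DFinsupp.notMem_support_iff.1 hη
    exact congrArg Subtype.val this

variable {G : Γ → Submodule R M}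

theorem Grd.mem_iSup_iff (g : Grd G) (S : Set Γ) (x : M) :
    x ∈ (⨆ η ∈ S, G η) ↔ ∀ η, η ∉ S → g.p η x = 0 := by
  constructor
  · intro hx η hη
    have hle : (⨆ δ ∈ S, G δ) ≤ LinearMap.ker (g.p η) := by
      refine iSup₂_le fun δ hδ y hy => ?_
      exact g.ne η δ y hy (fun h => hη (h ▸ hδ))
    exact hle hx
  · intro h
    rw [← g.sum x]
    refine Submodule.sum_mem _ fun η _ => ?_
    by_cases hη : η ∈ S
    · exact (le_iSup₂_of_le (f := fun η (_ : η ∈ S) => G η) η hη le_rfl) (g.mem η x)
    · rw [h η hη]; exact Submodule.zero_mem _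

theorem Grd.mem_Ici_iff [LinearOrder Γ] (g : Grd G) (γ : Γ) (x : M) :
    x ∈ (⨆ η ∈ Set.Ici γ, G η) ↔ ∀ η, η < γ → g.p η x = 0 := by
  rw [g.mem_iSup_iff]
  simp

theorem Grd.mem_Ioi_iff [LinearOrder Γ] (g : Grd G) (γ : Γ) (x : M) :
    x ∈ (⨆ η ∈ Set.Ioi γ, G η) ↔ ∀ η, η ≤ γ → g.p η x = 0 := by
  rw [g.mem_iSup_iff]
  simp

theorem Grd.exists_finset (g : Grd G) [Module.Finite R M] :
    ∃ S : Finset Γ, ∀ η, η ∉ S → G η = ⊥ := by
  classical
  obtain ⟨s, hs⟩ := Module.Finite.fg_top (R := R) (M := M)
  refine ⟨s.biUnion g.supp, fun η hη => ?_⟩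
  have hp : g.p η = 0 := by
    apply LinearMap.ext_on hs
    intro x hx
    rw [LinearMap.zero_apply]
    apply g.zero
    intro hmem
    exact hη (Finset.mem_biUnion.2 ⟨x, hx, hmem⟩)
  rw [eq_bot_iff]
  intro x hx
  rw [Submodule.mem_bot, ← g.same η x hx, hp, LinearMap.zero_apply]

theorem Grd.isInternal [DecidableEq Γ] (g : Grd G) : DirectSum.IsInternal G := by
  rw [DirectSum.isInternal_submodule_iff_iSupIndep_and_iSup_eq_top]
  constructor
  · rw [iSupIndep_def]
    intro η
    rw [Submodule.disjoint_def]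
    intro x hx hx'
    have h1 : g.p η x = 0 := by
      have hx'' : x ∈ (⨆ δ ∈ {δ | δ ≠ η}, G δ) := by
        simpa using hx'
      exact (g.mem_iSup_iff _ x).1 hx'' η (by simp)
    rw [← g.same η x hx, h1]
  · rw [eq_top_iff]
    intro x _
    rw [← g.sum x]
    exact Submodule.sum_mem _ fun η _ => (le_iSup G η) (g.mem η x)

theorem Grd.isCompl (g : Grd G) (S : Set Γ) : IsCompl (⨆ η ∈ S, G η) (⨆ η ∈ Sᶜ, G η) := by
  rw [isCompl_iff]
  constructor
  · rw [Submodule.disjoint_def]
    intro x hx hx'
    rw [g.mem_iSup_iff] at hx hx'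
    rw [← g.sum x]
    refine Finset.sum_eq_zero fun η _ => ?_
    by_cases h : η ∈ S
    · exact hx' η (by simpa using h)
    · exact hx η h
  · rw [codisjoint_iff, eq_top_iff]
    intro x _
    rw [← g.sum x]
    refine Submodule.sum_mem _ fun η _ => ?_
    by_cases h : η ∈ S
    · exact Submodule.mem_sup_left
        ((le_iSup₂_of_le (f := fun η (_ : η ∈ S) => G η) η h le_rfl) (g.mem η x))
    · exact Submodule.mem_sup_right
        ((le_iSup₂_of_le (f := fun η (_ : η ∈ Sᶜ) => G η) η h le_rfl) (g.mem η x))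

end K983.Grading
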