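import Groth.Agent.FiltMod.K983.Grading
import Mathlib.Algebra.Module.Projective
import Mathlib.RingTheory.LocalRing.Module
import Mathlib.RingTheory.Support
import Mathlib.LinearAlgebra.FiniteDimensional.Basic
import Mathlib.LinearAlgebra.Dimension.Constructions
import Mathlib.Algebra.BigOperators.Finprod

/-!
# Splitting filtrations
-/

set_option autoImplicit false
set_option linter.unusedSectionVars false
set_option linter.style.haveILetI false
open scoped TensorProduct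
universe u v w

namespace K983.Split
open K983.Grading

variable {Γ : Type w} [LinearOrder Γ] {R : Type u} [CommRing R] {M : Type v} [AddCommGroup M]
  [Module R M]

/-- `F^{γ+}`. -/
def Plus (F : Γ → Submodule R M) (γ : Γ) : Submodule R M := ⨆ η ∈ Set.Ioi γ, F η

theorem le_Plus (F : Γ → Submodule R M) {γ η : Γ} (h : γ < η) : F η ≤ Plus F γ :=
  le_iSup₂_of_le (f := fun η (_ : η ∈ Set.Ioi γ) => F η) η h le_rfl

theorem Plus_le (F : Γ → Submodule R M) (hF : Antitone F) (γ : Γ) : Plus F γ ≤ F γ :=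
  iSup₂_le fun _ hη => hF (le_of_lt hη)

/-- Vanishing of low components. -/
theorem vanish (F : Γ → Submodule R M) (G : Γ → Submodule R M)
    (hGF : ∀ γ, G γ ≤ F γ) (hdis : ∀ γ, Disjoint (G γ) (Plus F γ)) (I : Set Γ) (hI : IsLowerSet I)
    (S : Finset Γ) (g : Γ → M) (hg : ∀ η ∈ S, g η ∈ G η)
    (hsum : ∀ η ∈ I, ∑ δ ∈ S, g δ ∈ Plus F η) : ∀ η ∈ S, η ∈ I → g η = 0 := by
  classical
  by_contra hcon
  push Not at hcon
  obtain ⟨η₁, hη₁S, hη₁I, hη₁⟩ := hcon
  let T : Finset Γ := S.filter (fun η => η ∈ I ∧ g η ≠ 0)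
  have hT : T.Nonempty := ⟨η₁, Finset.mem_filter.2 ⟨hη₁S, hη₁I, hη₁⟩⟩
  obtain ⟨η₀, hη₀, hmin⟩ := T.exists_min_image id hT
  obtain ⟨hη₀S, hη₀I, hη₀ne⟩ := Finset.mem_filter.1 hη₀
  apply hη₀ne
  have h1 : g η₀ = (∑ δ ∈ S, g δ) - ∑ δ ∈ S.erase η₀, g δ := by
    rw [eq_sub_iff_add_eq, Finset.add_sum_erase _ _ hη₀S]
  have h2 : g η₀ ∈ Plus F η₀ := by
    rw [h1]
    refine Submodule.sub_mem _ (hsum η₀ hη₀I) (Submodule.sum_mem _ fun δ hδ => ?_)
    have hne := Finset.ne_of_mem_erase hδ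
    have hδS := Finset.mem_of_mem_erase hδ
    rcases lt_or_gt_of_ne hne with hlt | hgt
    · by_cases h0 : g δ = 0
      · rw [h0]; exact Submodule.zero_mem _
      · exact absurd (hmin δ (Finset.mem_filter.2 ⟨hδS, hI hlt.le hη₀I, h0⟩)) (not_le.2 hlt)
    · exact le_Plus F hgt (hGF δ (hg δ hδS))
  exact (Submodule.disjoint_def.1 (hdis η₀)) _ (hg η₀ hη₀S) h2

/-- A filtration with complements of the `F^{γ+}` in `F^γ` generating the module is split. -/
theorem split_of_iSup_eq_top (F : Γ → Submodule R M) (hF : Antitone F) (G : Γ → Submodule R M)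
    (hsup : ∀ γ, G γ ⊔ Plus F γ = F γ) (hdis : ∀ γ, Disjoint (G γ) (Plus F γ))
    (htop : (⨆ γ, G γ) = ⊤) :
    DirectSum.IsInternal G ∧ ∀ γ, F γ = ⨆ η ∈ Set.Ici γ, G η := by
  classical
  have hGF : ∀ γ, G γ ≤ F γ := fun γ => (hsup γ) ▸ le_sup_left
  have hint : DirectSum.IsInternal G := by
    rw [DirectSum.isInternal_submodule_iff_iSupIndep_and_iSup_eq_top]
    refine ⟨?_, htop⟩
    rw [iSupIndep_iff_dfinsupp_lsum_injective]
    rw [← LinearMap.ker_eq_bot, LinearMap.ker_eq_bot']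
    intro m hm
    have h0 : ∑ δ ∈ m.support, ((m δ : G δ) : M) = 0 := by
      rw [DFinsupp.lsum_apply_apply, DFinsupp.sumAddHom_apply] at hm
      exact hm
    have h1 := vanish F G hGF hdis Set.univ isLowerSet_univ m.support (fun δ => ((m δ : G δ) : M))
      (fun η _ => (m η).2) (fun η _ => by rw [h0]; exact Submodule.zero_mem _)
    ext η
    by_cases hη : η ∈ m.support
    · have := h1 η hη trivial
      simpa using this
    · rw [DFinsupp.notMem_support_iff.1 hη]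
      rfl
  refine ⟨hint, fun γ => ?_⟩
  have g := Grd.ofInternal hint
  apply le_antisymm
  · intro x hx
    rw [g.mem_Ici_iff]
    intro η hη
    by_cases hmem : η ∈ g.supp x
    · refine vanish F G hGF hdis (Set.Iio γ) (isLowerSet_Iio γ) (g.supp x) (fun δ => g.p δ x)
        (fun δ _ => g.mem δ x) (fun δ hδ => ?_) η hmem hη
      rw [g.sum x]
      exact le_Plus F hδ hx
    · exact g.zero x η hmem
  · exact iSup₂_le fun η hη => (hGF η).trans (hF hη)

/-- A finiteness condition for filtrations. -/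
def FinJump (F : Γ → Submodule R M) : Prop :=
  ∃ S : Finset Γ, (⨆ η ∈ {η | η ∈ S}, F η) = ⊤ ∧
    ∀ γ ∈ S, Plus F γ ≤ ⨆ η ∈ {η | η ∈ S ∧ η ∈ Set.Ioi γ}, F η

theorem split_of_finJump (F : Γ → Submodule R M) (hF : Antitone F) (G : Γ → Submodule R M)
    (hsup : ∀ γ, G γ ⊔ Plus F γ = F γ) (hdis : ∀ γ, Disjoint (G γ) (Plus F γ))
    (hfin : FinJump F) :
    DirectSum.IsInternal G ∧ ∀ γ, F γ = ⨆ η ∈ Set.Ici γ, G η := by
  classical
  apply split_of_iSup_eq_top F hF G hsup hdis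
  obtain ⟨S, hS, hP⟩ := hfin
  have key : ∀ γ ∈ S, F γ ≤ ⨆ γ, G γ := by
    by_contra hcon
    push Not at hcon
    obtain ⟨γ₁, hγ₁, hn⟩ := hcon
    let T : Finset Γ := S.filter (fun γ => ¬ F γ ≤ ⨆ γ, G γ)
    obtain ⟨γ₀, hγ₀, hmax⟩ := T.exists_max_image id ⟨γ₁, Finset.mem_filter.2 ⟨hγ₁, hn⟩⟩
    obtain ⟨hγ₀S, hγ₀n⟩ := Finset.mem_filter.1 hγ₀
    apply hγ₀n
    rw [← hsup γ₀]
    refine sup_le (le_iSup G γ₀) ((hP γ₀ hγ₀S).trans (iSup₂_le fun η hη => ?_))
    obtain ⟨hηS, hηlt⟩ := hη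
    by_contra hcon
    exact absurd (hmax η (Finset.mem_filter.2 ⟨hηS, hcon⟩)) (not_le.2 hηlt)
  rw [eq_top_iff, ← hS]
  exact iSup₂_le key

section splitfacts

variable {F G : Γ → Submodule R M}

theorem antitone_of_split (hF : ∀ γ, F γ = ⨆ η ∈ Set.Ici γ, G η) : Antitone F := by
  intro a b hab
  rw [hF a, hF b]
  exact biSup_mono fun η hη => hab.trans hη

theorem le_of_split (hF : ∀ γ, F γ = ⨆ η ∈ Set.Ici γ, G η) {γ η : Γ} (h : γ ≤ η) : G η ≤ F γ := by
  rw [hF γ]
  exact le_iSup₂_of_le (f := fun η (_ : η ∈ Set.Ici γ) => G η) η h le_rfl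

theorem Plus_eq (hF : ∀ γ, F γ = ⨆ η ∈ Set.Ici γ, G η) (γ : Γ) :
    Plus F γ = ⨆ η ∈ Set.Ioi γ, G η := by
  apply le_antisymm
  · refine iSup₂_le fun η hη => ?_
    rw [hF η]
    refine iSup₂_le fun δ hδ => ?_
    exact le_iSup₂_of_le (f := fun η (_ : η ∈ Set.Ioi γ) => G η) δ (lt_of_lt_of_le hη hδ) le_rfl
  · refine iSup₂_le fun η hη => ?_
    exact (le_of_split hF le_rfl).trans (le_Plus F hη)

theorem sup_Plus (hF : ∀ γ, F γ = ⨆ η ∈ Set.Ici γ, G η) (γ : Γ) : G γ ⊔ Plus F γ = F γ := by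
  apply le_antisymm
  · exact sup_le (le_of_split hF le_rfl) (Plus_le F (antitone_of_split hF) γ)
  · rw [hF γ]
    refine iSup₂_le fun η hη => ?_
    rcases eq_or_lt_of_le (Set.mem_Ici.1 hη) with rfl | hlt
    · exact le_sup_left
    · exact ((le_of_split hF le_rfl).trans (le_Plus F hlt)).trans le_sup_right

theorem disjoint_Plus (g : Grd G) (hF : ∀ γ, F γ = ⨆ η ∈ Set.Ici γ, G η) (γ : Γ) :
    Disjoint (G γ) (Plus F γ) := by
  rw [Plus_eq hF, Submodule.disjoint_def]
  intro x hx hx'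
  rw [g.mem_Ioi_iff] at hx'
  rw [← g.same γ x hx, hx' γ le_rfl]

theorem finJump_of_split (g : Grd G) [Module.Finite R M]
    (hF : ∀ γ, F γ = ⨆ η ∈ Set.Ici γ, G η) : FinJump F := by
  classical
  obtain ⟨S, hS⟩ := g.exists_finset
  have hle : ∀ (T : Set Γ), (⨆ η ∈ T, G η) ≤ ⨆ η ∈ {η | η ∈ S ∧ η ∈ T}, F η := by
    intro T
    refine iSup₂_le fun η hη => ?_
    by_cases hηS : η ∈ S
    · refine (le_of_split hF le_rfl).trans ?_
      exact le_iSup₂_of_le (f := fun η (_ : η ∈ {η | η ∈ S ∧ η ∈ T}) => F η) η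
        ⟨hηS, hη⟩ le_rfl
    · rw [hS η hηS]; exact bot_le
  refine ⟨S, ?_, fun γ _ => by rw [Plus_eq hF]; exact hle _⟩
  rw [eq_top_iff]
  intro x _
  have hx : x ∈ (⨆ η ∈ (Set.univ : Set Γ), G η) := by
    rw [g.mem_iSup_iff]
    intro η hη
    exact absurd trivial hη
  have := hle Set.univ hx
  simpa using this

end splitfacts

/-- Complements from projectivity. -/
theorem exists_compl_of_projective (A B : Submodule R M) (hBA : B ≤ A)
    [Module.Projective R (A ⧸ Submodule.comap A.subtype B)] :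
    ∃ G : Submodule R M, G ⊔ B = A ∧ Disjoint G B := by
  obtain ⟨s, hs⟩ := Module.projective_lifting_property (Submodule.comap A.subtype B).mkQ
    LinearMap.id (Submodule.mkQ_surjective _)
  refine ⟨Submodule.map A.subtype (LinearMap.range s), ?_, ?_⟩
  · apply le_antisymm
    · refine sup_le ?_ hBA
      rw [Submodule.map_le_iff_le_comap]
      intro x _
      exact x.2
    · intro x hx
      let x' : A := ⟨x, hx⟩
      let y : A := s ((Submodule.comap A.subtype B).mkQ x')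
      have hy : (Submodule.comap A.subtype B).mkQ y = (Submodule.comap A.subtype B).mkQ x' :=
        LinearMap.congr_fun hs _
      have hd : x' - y ∈ Submodule.comap A.subtype B := by
        rw [← Submodule.ker_mkQ (Submodule.comap A.subtype B), LinearMap.mem_ker, map_sub, hy, sub_self]
      rw [show x = (y : M) + ((x' - y : A) : M) by simp [x']]
      exact Submodule.add_mem_sup ⟨y, ⟨_, rfl⟩, rfl⟩ hd
  · rw [Submodule.disjoint_def]
    rintro _ ⟨y, ⟨q, rfl⟩, rfl⟩ hB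
    have h1 : (Submodule.comap A.subtype B).mkQ (s q) = 0 := by
      rw [← LinearMap.mem_ker, Submodule.ker_mkQ]
      exact hB
    have h2 : (Submodule.comap A.subtype B).mkQ (s q) = q := LinearMap.congr_fun hs q
    rw [h2] at h1
    rw [h1, map_zero]
    rfl

end K983.Split
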