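import Mathlib.LinearAlgebra.PiTensorProduct.Basic
import Mathlib.LinearAlgebra.Multilinear.Basic
import Mathlib.LinearAlgebra.Dual.Lemmas
import Mathlib.LinearAlgebra.Projection
import Mathlib.RingTheory.Nakayama
import Mathlib.RingTheory.Ideal.BigOperators
import Mathlib.Algebra.Module.Projective

/-!
# Functionals on tensor powers and trace ideals

`Phi f` is the functional `⨂ y_i ↦ ∏ f_i(y_i)` on a tensor power; `tr F` is the ideal generated by
the values `f(x)`, `x ∈ F`, `f : M → R`.
-/

set_option autoImplicit false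
open scoped TensorProduct
universe u v w

namespace K983.Tensor

variable {R : Type u} [CommRing R] {M : Type v} [AddCommGroup M] [Module R M] {k : ℕ}

/-- The functional `⨂ y_i ↦ ∏ f_i(y_i)`. -/
noncomputable def Phi (f : Fin k → (M →ₗ[R] R)) : (⨂[R] _ : Fin k, M) →ₗ[R] R :=
  PiTensorProduct.lift ((MultilinearMap.mkPiAlgebra R (Fin k) R).compLinearMap f)

theorem Phi_tprod (f : Fin k → (M →ₗ[R] R)) (y : Fin k → M) :
    Phi f (PiTensorProduct.tprod R y) = ∏ i, f i (y i) := by
  simp [Phi]

theorem tprod_mem_range (F : Fin k → Submodule R M) (y : Fin k → M) (hy : ∀ i, y i ∈ F i) :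
    PiTensorProduct.tprod R y ∈
      LinearMap.range (PiTensorProduct.map (R := R) (fun i => (F i).subtype)) := by
  refine ⟨PiTensorProduct.tprod R (fun i => ⟨y i, hy i⟩), ?_⟩
  rw [PiTensorProduct.map_tprod]
  rfl

theorem Phi_mem_of_range (F : Fin k → Submodule R M) (I : Ideal R) (f : Fin k → (M →ₗ[R] R))
    (H : ∃ i, ∀ z ∈ F i, f i z ∈ I) (t : ⨂[R] _ : Fin k, M)
    (ht : t ∈ LinearMap.range (PiTensorProduct.map (R := R) (fun i => (F i).subtype))) :
    Phi f t ∈ I := by
  obtain ⟨i, hi⟩ := H
  rw [PiTensorProduct.map_range_eq_span_tprod] at ht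
  induction ht using Submodule.span_induction with
  | mem x hx =>
    obtain ⟨m, rfl⟩ := hx
    rw [Phi_tprod]
    refine Ideal.prod_mem I (i := i) (Finset.mem_univ _) ?_
    exact hi _ (m i).2
  | zero => rw [map_zero]; exact I.zero_mem
  | add x y _ _ hx hy => rw [map_add]; exact I.add_mem hx hy
  | smul a x _ hx => rw [map_smul, smul_eq_mul]; exact I.mul_mem_left _ hx

/-- The trace ideal of a submodule `F` of `M` with respect to functionals on `M`. -/
def tr (F : Submodule R M) : Ideal R := Ideal.span {r | ∃ (f : M →ₗ[R] R) (x : M), x ∈ F ∧ f x = r}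

theorem mem_tr {F : Submodule R M} (f : M →ₗ[R] R) {x : M} (hx : x ∈ F) : f x ∈ tr F :=
  Ideal.subset_span ⟨f, x, hx, rfl⟩

theorem exists_of_not_le {F : Submodule R M} {m : Ideal R} (h : ¬ tr F ≤ m) :
    ∃ (f : M →ₗ[R] R) (x : M), x ∈ F ∧ f x ∉ m := by
  by_contra hcon
  push Not at hcon
  apply h
  rw [tr, Ideal.span_le]
  rintro _ ⟨f, x, hx, rfl⟩
  exact hcon f x hx

theorem le_tr_smul [Module.Projective R M] (F C : Submodule R M) (h : IsCompl F C) :
    F ≤ tr F • F := by
  intro x hx
  obtain ⟨s, hs⟩ := Module.projective_def.1 (inferInstance : Module.Projective R M)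
  have h1 : x = (s x).sum fun p r => r • p := by
    conv_lhs => rw [← hs x]
    rw [Finsupp.linearCombination_apply]
    rfl
  let ρ : M →ₗ[R] M := F.subtype ∘ₗ F.projectionOnto C h
  have h2 : ρ x = x := by
    simp only [ρ, LinearMap.comp_apply, Submodule.subtype_apply]
    exact congrArg Subtype.val (Submodule.projectionOnto_apply_left h ⟨x, hx⟩)
  have h3 : x = (s x).sum fun p r => r • ρ p := by
    conv_lhs => rw [← h2, h1]
    rw [Finsupp.sum, Finsupp.sum, map_sum]
    simp only [map_smul]
  rw [h3]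
  refine Submodule.sum_mem _ fun p _ => ?_
  refine Submodule.smul_mem_smul ?_ ?_
  · exact mem_tr ((Finsupp.lapply p).comp s) hx
  · simp [ρ]

/-- Annihilation criterion: let `F` be a direct summand of the finite projective module `M` and let
`z` be an element killed by whatever kills `F`; if for every maximal ideal `m` not containing the
trace ideal of `F` some element outside `m` kills `z`, then `z = 0`. -/
theorem eq_zero_of_forall [Module.Finite R M] [Module.Projective R M] (F C : Submodule R M)
    (h : IsCompl F C) (z : M) (hz : ∀ r : R, (∀ n ∈ F, r • n = 0) → r • z = 0)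
    (H : ∀ m : Ideal R, m.IsMaximal → ¬ tr F ≤ m → ∃ a : R, a ∉ m ∧ a • z = 0) : z = 0 := by
  have hfg : F.FG := by
    rw [← Submodule.range_subtype F]
    have : LinearMap.range (F.subtype ∘ₗ F.projectionOnto C h) = LinearMap.range F.subtype := by
      rw [LinearMap.range_comp, LinearMap.range_eq_top.2 (Submodule.projectionOnto_surjective h),
        Submodule.map_top]
    rw [← this, LinearMap.range_eq_map]
    exact Submodule.FG.map _ Module.Finite.fg_top
  obtain ⟨r, hr1, hr2⟩ := Submodule.exists_sub_one_mem_and_smul_eq_zero_of_fg_of_le_smul (tr F) F hfg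
    (le_tr_smul F C h)
  by_contra hz0
  have hA : (LinearMap.ker (LinearMap.toSpanSingleton R M z) : Ideal R) ≠ ⊤ := by
    intro hA
    apply hz0
    have : (1 : R) ∈ (LinearMap.ker (LinearMap.toSpanSingleton R M z) : Ideal R) := by
      rw [hA]; trivial
    simpa using this
  obtain ⟨m, hm, hle⟩ := Ideal.exists_le_maximal _ hA
  have hrm : r ∈ m := hle (by
    rw [LinearMap.mem_ker, LinearMap.toSpanSingleton_apply]
    exact hz r hr2)
  have hnot : ¬ tr F ≤ m := by
    intro hcon
    apply hm.ne_top
    rw [Ideal.eq_top_iff_one]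
    have := m.sub_mem hrm (hcon hr1)
    simpa using this
  obtain ⟨a, ha, haz⟩ := H m hm hnot
  apply ha
  apply hle
  rw [LinearMap.mem_ker, LinearMap.toSpanSingleton_apply]
  exact haz

/-- One inclusion for tensor powers of direct summands. -/
theorem le_of_range_le [Module.Finite R M] [Module.Projective R M] (F₁ F₂ : Submodule R M)
    (h₁ : ∃ C : Submodule R M, IsCompl F₁ C) (h₂ : ∃ C : Submodule R M, IsCompl F₂ C)
    (hk : 1 ≤ k)
    (h : LinearMap.range (PiTensorProduct.map (R := R) (fun _ : Fin k => F₁.subtype)) ≤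
      LinearMap.range (PiTensorProduct.map (R := R) (fun _ : Fin k => F₂.subtype))) : F₁ ≤ F₂ := by
  obtain ⟨C₁, h₁⟩ := h₁
  obtain ⟨C₂, h₂⟩ := h₂
  obtain ⟨n, rfl⟩ : ∃ n, k = n + 1 := ⟨k - 1, by omega⟩
  intro x hx
  -- projection onto `C₂` along `F₂`
  let π : M →ₗ[R] M := C₂.subtype ∘ₗ C₂.projectionOnto F₂ h₂.symm
  have hπ : ∀ y ∈ F₂, π y = 0 := by
    intro y hy
    simp only [π, LinearMap.comp_apply, Submodule.subtype_apply]
    have := (Submodule.projectionOnto_apply_eq_zero_iff h₂.symm).2 hy
    rw [this]; rfl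
  suffices hx0 : π x = 0 by
    simp only [π, LinearMap.comp_apply, Submodule.subtype_apply] at hx0
    have : C₂.projectionOnto F₂ h₂.symm x = 0 := Subtype.ext hx0
    exact (Submodule.projectionOnto_apply_eq_zero_iff h₂.symm).1 this
  refine eq_zero_of_forall F₁ C₁ h₁ (π x) (fun r hr => ?_) (fun m hm hnot => ?_)
  · rw [← map_smul, hr x hx, map_zero]
  · obtain ⟨f, y, hy, hfy⟩ := exists_of_not_le hnot
    refine ⟨f y ^ n, fun hcon => hfy (hm.isPrime.mem_of_pow_mem _ hcon), ?_⟩
    rw [← Module.forall_dual_apply_eq_zero_iff R]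
    intro g
    rw [map_smul, smul_eq_mul, mul_comm]
    have h3 := Phi_mem_of_range (fun _ : Fin (n+1) => F₂) (⊥ : Ideal R)
      (Fin.cons (g.comp π) (fun _ => f)) ⟨0, fun z hz => by
        simp only [Fin.cons_zero, LinearMap.comp_apply]
        rw [hπ z hz, map_zero]; exact Submodule.zero_mem _⟩
      (PiTensorProduct.tprod R (Fin.cons x (fun _ => y)))
      (h (tprod_mem_range (fun _ : Fin (n+1) => F₁) _ (by
        intro i
        refine Fin.cases ?_ (fun j => ?_) i
        · simpa using hx
        · simpa using hy)))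
    rw [Phi_tprod, Fin.prod_univ_succ] at h3
    simpa using h3

end K983.Tensor
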