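import Groth.Agent.FiltMod.K983.Tensor
import Groth.Agent.FiltMod.K983.Grading
import Mathlib.Algebra.Order.BigOperators.Group.Finset
import Mathlib.Order.Interval.Set.Basic

/-!
# Split filtrations with the same tensor power filtration are equal
-/

set_option autoImplicit false
set_option linter.unusedSectionVars false
set_option linter.style.haveILetI false
open scoped TensorProduct
universe u v w

namespace K983.TensorFilt
open K983.Tensor K983.Grading

variable {Γ : Type w} [AddCommGroup Γ] [LinearOrder Γ] [IsOrderedAddMonoid Γ]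
  {R : Type u} [CommRing R] {M : Type v} [AddCommGroup M] [Module R M] {k : ℕ}

/-- The filtration induced on the tensor power. -/
noncomputable def TF (k : ℕ) (F : Γ → Submodule R M) (γ : Γ) : Submodule R (⨂[R] _ : Fin k, M) :=
  ⨆ c : {c : Fin k → Γ // ∑ i, c i = γ},
    LinearMap.range (PiTensorProduct.map (R := R) (fun i => (F (c.1 i)).subtype))

theorem tprod_mem_TF (F : Γ → Submodule R M) (c : Fin k → Γ) (γ : Γ) (hc : ∑ i, c i = γ)
    (y : Fin k → M) (hy : ∀ i, y i ∈ F (c i)) : PiTensorProduct.tprod R y ∈ TF k F γ :=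
  (le_iSup (fun c : {c : Fin k → Γ // ∑ i, c i = γ} =>
    LinearMap.range (PiTensorProduct.map (R := R) (fun i => (F (c.1 i)).subtype))) ⟨c, hc⟩)
    (tprod_mem_range (fun i => F (c i)) y hy)

theorem Phi_mem_of_TF (F : Γ → Submodule R M) (γ : Γ) (I : Ideal R) (f : Fin k → (M →ₗ[R] R))
    (H : ∀ c : Fin k → Γ, ∑ i, c i = γ → ∃ i, ∀ z ∈ F (c i), f i z ∈ I)
    (t : ⨂[R] _ : Fin k, M) (ht : t ∈ TF k F γ) : Phi f t ∈ I := by
  have hle : TF k F γ ≤ Submodule.comap (Phi f) I := by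
    refine iSup_le fun c => ?_
    intro t ht
    exact Phi_mem_of_range (fun i => F (c.1 i)) I f (H c.1 c.2) t ht
  exact hle ht

/-- `F` is the filtration split by the grading `G`. -/
def SplitBy (F G : Γ → Submodule R M) : Prop := ∀ γ, F γ = ⨆ η ∈ Set.Ici γ, G η

theorem SplitBy.mem {F G : Γ → Submodule R M} (h : SplitBy F G) {γ η : Γ} (hη : γ ≤ η) {x : M}
    (hx : x ∈ G η) : x ∈ F γ := by
  rw [h γ]
  exact (le_iSup₂_of_le (f := fun η (_ : η ∈ Set.Ici γ) => G η) η hη le_rfl) hx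

/-- The weights of a grading at an ideal `m`. -/
def wt (G : Γ → Submodule R M) (m : Ideal R) : Set Γ := {δ | ¬ tr (G δ) ≤ m}

theorem exists_max_wt {G : Γ → Submodule R M} (g : Grd G) [Module.Finite R M] (m : Ideal R)
    (hne : ¬ tr (⊤ : Submodule R M) ≤ m) :
    ∃ δ ∈ wt G m, ∀ η ∈ wt G m, η ≤ δ := by
  classical
  obtain ⟨S, hS⟩ := g.exists_finset
  have hsub : wt G m ⊆ (S : Set Γ) := by
    intro δ hδ
    by_contra hcon
    apply hδ
    rw [hS δ hcon, tr, Ideal.span_le]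
    rintro _ ⟨f, x, hx, rfl⟩
    rw [Submodule.mem_bot] at hx
    rw [hx, map_zero]
    exact m.zero_mem
  have hfin : (wt G m).Finite := S.finite_toSet.subset hsub
  have hnon : (wt G m).Nonempty := by
    obtain ⟨f, x, _, hfx⟩ := exists_of_not_le hne
    by_contra hcon
    rw [Set.not_nonempty_iff_eq_empty] at hcon
    apply hfx
    rw [← g.sum x, map_sum]
    refine m.sum_mem fun η _ => ?_
    have : η ∉ wt G m := by rw [hcon]; exact Set.notMem_empty _
    simp only [wt, Set.mem_ofPred_eq, not_not] at this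
    exact this (mem_tr f (g.mem η x))
  obtain ⟨δ, hδ, hmax⟩ := hfin.exists_maximalFor id _ hnon
  refine ⟨δ, hδ, fun η hη => ?_⟩
  by_contra hlt
  rw [not_le] at hlt
  exact absurd (hmax hη hlt.le) (not_le.2 hlt)

/-- Elements of the filtration above the highest weight have all values in `m`. -/
theorem val_mem {F G : Γ → Submodule R M} (g : Grd G) (h : SplitBy F G) (m : Ideal R) {δ : Γ}
    (hmax : ∀ η ∈ wt G m, η ≤ δ) {γ : Γ} (hγ : δ < γ) (f : M →ₗ[R] R) {z : M} (hz : z ∈ F γ) :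
    f z ∈ m := by
  rw [h γ, g.mem_Ici_iff] at hz
  rw [← g.sum z, map_sum]
  refine m.sum_mem fun η _ => ?_
  by_cases hη : η < γ
  · rw [hz η hη, map_zero]; exact m.zero_mem
  · have hη' : η ∉ wt G m := fun hcon => absurd (hmax η hcon) (not_le.2 (hγ.trans_le (not_lt.1 hη)))
    simp only [wt, Set.mem_ofPred_eq, not_not] at hη'
    exact hη' (mem_tr f (g.mem η z))

theorem exists_ge {c d : Fin k → Γ} (hk : 1 ≤ k) (h : ∑ i, c i = ∑ i, d i) : ∃ i, d i ≤ c i := by
  by_contra hcon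
  push Not at hcon
  have := Finset.sum_lt_sum_of_nonempty (s := (Finset.univ : Finset (Fin k)))
    (by haveI : Nonempty (Fin k) := ⟨⟨0, hk⟩⟩; exact Finset.univ_nonempty) (fun i _ => hcon i)
  exact absurd h this.ne

theorem exists_gt {n : ℕ} {c d : Fin (n + 1) → Γ} (h : ∑ i, c i = ∑ i, d i) (h0 : c 0 < d 0) :
    ∃ j : Fin n, d j.succ < c j.succ := by
  by_contra hcon
  push Not at hcon
  have : ∑ i, c i < ∑ i, d i := by
    rw [Fin.sum_univ_succ, Fin.sum_univ_succ]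
    exact add_lt_add_of_lt_of_le h0 (Finset.sum_le_sum fun i _ => hcon i)
  exact absurd h this.ne

theorem max_le {F₁ F₂ G H : Γ → Submodule R M} (hh : Grd H) (h1 : SplitBy F₁ G)
    (h2 : SplitBy F₂ H) (hk : 1 ≤ k) (h : ∀ γ, TF k F₁ γ ≤ TF k F₂ γ) (m : Ideal R) (hm : m.IsPrime)
    {δ₁ δ₂ : Γ} (hδ₁ : δ₁ ∈ wt G m) (hmax₂ : ∀ η ∈ wt H m, η ≤ δ₂) : δ₁ ≤ δ₂ := by
  by_contra hlt
  rw [not_le] at hlt
  obtain ⟨f, y, hy, hfy⟩ := exists_of_not_le hδ₁
  have h3 := Phi_mem_of_TF F₂ (∑ _i : Fin k, δ₁) m (fun _ => f) (fun c hc => by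
    obtain ⟨i, hi⟩ := exists_ge (d := fun _ => δ₁) hk hc
    exact ⟨i, fun z hz => val_mem hh h2 m hmax₂ (hlt.trans_le hi) f hz⟩)
    (PiTensorProduct.tprod R fun _ => y) (h _ (tprod_mem_TF F₁ (fun _ => δ₁) _ rfl _
      (fun i => h1.mem le_rfl hy)))
  rw [Phi_tprod, Finset.prod_const] at h3
  exact hfy (hm.mem_of_pow_mem _ h3)

theorem exists_common {F₁ F₂ G H : Γ → Submodule R M} [Module.Finite R M] (g : Grd G) (hh : Grd H)
    (h1 : SplitBy F₁ G) (h2 : SplitBy F₂ H) (hk : 1 ≤ k) (h : ∀ γ, TF k F₁ γ = TF k F₂ γ)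
    (m : Ideal R) (hm : m.IsPrime) (hne : ¬ tr (⊤ : Submodule R M) ≤ m) :
    ∃ (δ : Γ) (y : M) (f : M →ₗ[R] R), y ∈ G δ ∧ f (hh.p δ y) ∉ m := by
  obtain ⟨δ₁, hδ₁, hmax₁⟩ := exists_max_wt g m hne
  obtain ⟨δ₂, hδ₂, hmax₂⟩ := exists_max_wt hh m hne
  have hle := max_le hh h1 h2 hk (fun γ => (h γ).le) m hm hδ₁ hmax₂
  have hle' := max_le g h2 h1 hk (fun γ => (h γ).ge) m hm hδ₂ hmax₁
  obtain rfl : δ₁ = δ₂ := le_antisymm hle hle'
  obtain ⟨n, rfl⟩ : ∃ n, k = n + 1 := ⟨k - 1, by omega⟩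
  by_contra hcon
  push Not at hcon
  obtain ⟨f, y, hy, hfy⟩ := exists_of_not_le hδ₁
  have h3 := Phi_mem_of_TF F₂ (∑ _i : Fin (n + 1), δ₁) m
    (Fin.cons (f.comp (LinearMap.id - hh.p δ₁)) (fun _ => f)) (fun c hc => by
      by_cases hc0 : c 0 < δ₁
      · obtain ⟨j, hj⟩ := exists_gt (d := fun _ => δ₁) hc hc0
        refine ⟨j.succ, fun z hz => ?_⟩
        rw [Fin.cons_succ]
        exact val_mem hh h2 m hmax₂ hj f hz
      · refine ⟨0, fun z hz => ?_⟩
        rw [Fin.cons_zero]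
        rw [not_lt] at hc0
        simp only [LinearMap.comp_apply, LinearMap.sub_apply, LinearMap.id_apply]
        rw [h2, hh.mem_Ici_iff] at hz
        have hz' : z - hh.p δ₁ z = ∑ η ∈ (hh.supp z).erase δ₁, hh.p η z := by
          by_cases hmem : δ₁ ∈ hh.supp z
          · rw [sub_eq_iff_eq_add, Finset.sum_erase_add _ _ hmem, hh.sum z]
          · rw [hh.zero z δ₁ hmem, sub_zero, Finset.erase_eq_of_notMem hmem, hh.sum z]
        rw [hz', map_sum]
        refine m.sum_mem fun η hη => ?_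
        have hne := Finset.ne_of_mem_erase hη
        by_cases hlt : η < δ₁
        · rw [hz η (hlt.trans_le hc0), map_zero]; exact m.zero_mem
        · have hη' : η ∉ wt H m := fun hcon =>
            hne (le_antisymm (hmax₂ η hcon) (not_lt.1 hlt))
          simp only [wt, Set.mem_ofPred_eq, not_not] at hη'
          exact hη' (mem_tr f (hh.mem η z)))
    (PiTensorProduct.tprod R fun _ => y) ((h _).le (tprod_mem_TF F₁ (fun _ => δ₁) _ rfl _
      (fun i => h1.mem le_rfl hy)))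
  rw [Phi_tprod, Fin.prod_univ_succ] at h3
  simp only [Fin.cons_zero, Fin.cons_succ, Finset.prod_const] at h3
  rcases hm.mem_or_mem h3 with h4 | h4
  · simp only [LinearMap.comp_apply, LinearMap.sub_apply, LinearMap.id_apply, map_sub] at h4
    apply hfy
    have := m.add_mem h4 (hcon δ₁ y f hy)
    simpa using this
  · exact hfy (hm.mem_of_pow_mem _ h4)

theorem le_of_TF_eq {F₁ F₂ G H : Γ → Submodule R M} [Module.Finite R M] [Module.Projective R M]
    (g : Grd G) (hh : Grd H) (h1 : SplitBy F₁ G) (h2 : SplitBy F₂ H) (hk : 1 ≤ k)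
    (h : ∀ γ, TF k F₁ γ = TF k F₂ γ) (γ : Γ) : F₁ γ ≤ F₂ γ := by
  rw [h1 γ]
  refine iSup₂_le fun γ' hγ' x hx => ?_
  rw [h2 γ, hh.mem_Ici_iff]
  intro η hη
  have hηγ' : η < γ' := hη.trans_le hγ'
  refine eq_zero_of_forall (⊤ : Submodule R M) ⊥ isCompl_top_bot _ (fun r hr => hr _ trivial)
    (fun m hm hnot => ?_)
  obtain ⟨δ, y, f, hy, hfy⟩ := exists_common g hh h1 h2 hk h m hm.isPrime hnot
  obtain ⟨n, rfl⟩ : ∃ n, k = n + 1 := ⟨k - 1, by omega⟩
  refine ⟨f (hh.p δ y) ^ n, fun hcon => hfy (hm.isPrime.mem_of_pow_mem _ hcon), ?_⟩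
  rw [← Module.forall_dual_apply_eq_zero_iff R]
  intro φ
  rw [map_smul, smul_eq_mul, mul_comm]
  have h3 := Phi_mem_of_TF F₂ (∑ i : Fin (n + 1), (Fin.cons γ' (fun _ => δ) : Fin (n + 1) → Γ) i) ⊥
    (Fin.cons (φ.comp (hh.p η)) (fun _ => f.comp (hh.p δ))) (fun c hc => by
      by_cases hc0 : c 0 < γ'
      · obtain ⟨j, hj⟩ := exists_gt (d := (Fin.cons γ' (fun _ => δ) : Fin (n + 1) → Γ)) hc
          (by simpa using hc0)
        rw [Fin.cons_succ] at hj
        refine ⟨j.succ, fun z hz => ?_⟩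
        rw [h2, hh.mem_Ici_iff] at hz
        simp [hz δ hj]
      · refine ⟨0, fun z hz => ?_⟩
        rw [not_lt] at hc0
        rw [h2, hh.mem_Ici_iff] at hz
        simp [hz η (hηγ'.trans_le hc0)])
    (PiTensorProduct.tprod R (Fin.cons x (fun _ => y))) ((h _).le (tprod_mem_TF F₁
      (Fin.cons γ' (fun _ => δ)) _ rfl _ (fun i => by
        refine Fin.cases ?_ (fun j => ?_) i
        · simpa using h1.mem le_rfl hx
        · simpa using h1.mem le_rfl hy)))
  rw [Phi_tprod, Fin.prod_univ_succ] at h3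
  simpa using h3

end K983.TensorFilt
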